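import Cfsg.Agent.Lib.EssSmall.Series

/-!
Essential subgroups and invariant series of the Frattini quotient; extraspecial groups of order `p³`.
-/

set_option autoImplicit false

open scoped commutatorElement

namespace CfsgLib.EssSmall

open Cfsg CfsgLib.Fusion

variable {H : Type*} [Group H]

/-- The action on the Frattini quotient. -/
noncomputable def frattiniQuotAct (H : Type*) [Group H] : MulAut H →* MulAut (H ⧸ frattini H) where
  toFun g := QuotientGroup.congr (frattini H) (frattini H) g (by
    have h : ∀ g : MulAut H, (frattini H).map g.toMonoidHom ≤ frattini H := fun g => by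
      rw [Subgroup.map_le_iff_le_comap]
      exact frattini_le_comap_frattini_of_surjective g.surjective
    refine le_antisymm (h g) fun x hx => ?_
    exact ⟨g⁻¹ x, h g⁻¹ ⟨x, hx, rfl⟩, MulAut.apply_inv_self _ g x⟩)
  map_one' := by
    refine MulEquiv.ext fun x => ?_
    obtain ⟨x, rfl⟩ := QuotientGroup.mk_surjective x
    rfl
  map_mul' g h := by
    refine MulEquiv.ext fun x => ?_
    obtain ⟨x, rfl⟩ := QuotientGroup.mk_surjective x
    rfl

@[simp] theorem frattiniQuotAct_mk (g : MulAut H) (x : H) :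
    frattiniQuotAct H g (QuotientGroup.mk x) = QuotientGroup.mk (g x) := rfl

/-- The automorphisms in `A` acting trivially on the Frattini quotient form a `p`-group. -/
theorem isPGroup_ker_frattiniQuotAct [Finite H] {p : ℕ} [hp : Fact p.Prime] (hH : IsPGroup p H)
    (A : Subgroup (MulAut H)) : IsPGroup p ((frattiniQuotAct H).comp A.subtype).ker := by
  classical
  have : Finite (MulAut H) := Finite.of_injective _ DFunLike.coe_injective
  set ψ := (frattiniQuotAct H).comp A.subtype
  rintro ⟨g, hg⟩
  obtain ⟨m, q, hq, hmq⟩ := (Nat.exists_eq_pow_mul_and_not_dvd (orderOf_pos g).ne' p hp.out.ne_one :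
    ∃ e n, ¬ p ∣ n ∧ orderOf g = p ^ e * n)
  refine ⟨m, Subtype.ext ?_⟩
  set h := g ^ p ^ m with hh
  show h = 1
  have hhq : orderOf (h : MulAut H) = q := by
    rw [Subgroup.orderOf_coe, hh, orderOf_pow, hmq, Nat.gcd_mul_right_left,
      Nat.mul_div_cancel_left _ (pow_pos hp.out.pos m)]
  have hcop : (Nat.card (Subgroup.zpowers (h : MulAut H))).Coprime (Nat.card (frattini H)) := by
    obtain ⟨n, hn⟩ := IsPGroup.iff_card.1 (hH.to_subgroup (frattini H))
    rw [Nat.card_zpowers, hhq, hn]
    exact ((hp.out.coprime_iff_not_dvd.2 hq).symm).pow_right n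
  have key := CfsgLib.Solvable.smul_eq_self_of_trivial_on_frattini_quotient
    (A := Subgroup.zpowers (h : MulAut H)) (K := H) hcop (fun a k => by
      have ha : (a : MulAut H) ∈ (frattiniQuotAct H).ker := by
        refine Subgroup.zpowers_le.2 ?_ a.2
        show frattiniQuotAct H ((g ^ p ^ m : A) : MulAut H) = 1
        have hg' : ψ g = 1 := hg
        rw [show frattiniQuotAct H ((g ^ p ^ m : A) : MulAut H) = ψ (g ^ p ^ m) from rfl, map_pow,
          hg', one_pow]
      have h1 := congrArg (fun e : MulAut (H ⧸ frattini H) => e (QuotientGroup.mk k)) ha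
      simp only [frattiniQuotAct_mk, MulAut.one_apply] at h1
      exact QuotientGroup.eq.1 h1.symm)
  exact Subtype.ext (MulEquiv.ext fun k => key ⟨_, Subgroup.mem_zpowers _⟩ k)

variable {Ω : Type*} [Group Ω] {S : Subgroup Ω} [Finite S] {F : Cfsg.FusionSystem S} {P : Subgroup Ω}
  {p : ℕ} [hp : Fact p.Prime]

omit H in
/-- An essential subgroup has no invariant series of its Frattini quotient with three factors of
order at most `p`. -/
theorem false_of_frattini_series (hS : IsPGroup p S) (hF : F.IsSaturated p)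
    (hP : F.IsEssential p P) {Z₁ Z₂ : Subgroup P} (h1 : frattini P ≤ Z₁) (h12 : Z₁ ≤ Z₂)
    (hc₁ : (frattini P).relIndex Z₁ = p) (hc₂ : Z₁.relIndex Z₂ = p) (hc₃ : Z₂ = ⊤ ∨ Z₂.index = p)
    (hi₁ : ∀ g ∈ F.autGroup P, ∀ x ∈ Z₁, g x ∈ Z₁) (hi₂ : ∀ g ∈ F.autGroup P, ∀ x ∈ Z₂, g x ∈ Z₂) :
    False := by
  classical
  have : Finite P := finite_of_le hP.1.1
  have : Finite (MulAut P) := Finite.of_injective _ DFunLike.coe_injective
  have hPp : IsPGroup p P := hS.to_le hP.1.1
  obtain ⟨g, m, hg, hgn⟩ := exists_not_mem_pCore hS hF hP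
  set ψ := (frattiniQuotAct P).comp (F.autGroup P).subtype
  set π := QuotientGroup.mk' (frattini P) with hπ
  have hker : π.ker = frattini P := QuotientGroup.ker_mk' _
  have hcard₁ : Nat.card (Z₁.map π) = p := by
    rw [← Subgroup.relIndex_ker, hker]; exact hc₁
  have hrel : (Z₁.map π).relIndex (Z₂.map π) = p := by
    rw [Subgroup.relIndex_map_map, hker, sup_eq_left.2 h1, sup_eq_left.2 (h1.trans h12)]
    exact hc₂
  have hidx : Z₂.map π = ⊤ ∨ (Z₂.map π).index = p := by
    rcases hc₃ with h | h
    · exact Or.inl (by rw [h, Subgroup.map_top_of_surjective _ (QuotientGroup.mk'_surjective _)])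
    · right
      rw [Subgroup.index_map, hker, sup_eq_left.2 (h1.trans h12),
        MonoidHom.range_eq_top.2 (QuotientGroup.mk'_surjective _), Subgroup.index_top, mul_one, h]
  let g' : ψ.range := ⟨ψ g, g, rfl⟩
  have hgp : g' ^ p ^ m = 1 := Subtype.ext (by
    show (ψ g) ^ p ^ m = 1
    rw [← map_pow, hg, map_one])
  have hmem := mem_pCore_of_series (hPp.to_quotient _) ψ.range (Subgroup.map_mono h12) hcard₁ hrel
    hidx (fun γ hγ x hx => by
      obtain ⟨a, rfl⟩ := hγ
      obtain ⟨z, hz, rfl⟩ := hx
      exact ⟨(a : MulAut P) z, hi₁ _ a.2 z hz, rfl⟩) (fun γ hγ x hx => by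
      obtain ⟨a, rfl⟩ := hγ
      obtain ⟨z, hz, rfl⟩ := hx
      exact ⟨(a : MulAut P) z, hi₂ _ a.2 z hz, rfl⟩) hgp
  refine hgn (CfsgLib.Solvable.le_pCore (N := (pCore p ψ.range).comap ψ.rangeRestrict) ?_ ?_
    (hmem : _))
  · exact (CfsgLib.Solvable.pCore_normal p _).comap _
  · refine (CfsgLib.Solvable.pCore_isPGroup p _).comap_of_ker_isPGroup _ ?_
    rw [MonoidHom.ker_rangeRestrict]
    exact isPGroup_ker_frattiniQuotAct hPp (F.autGroup P)

omit H in
/-- An essential subgroup whose Frattini quotient has order `p²` has no invariant subgroup of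
index `p` over the Frattini subgroup. -/
theorem false_of_frattini_line (hS : IsPGroup p S) (hF : F.IsSaturated p)
    (hP : F.IsEssential p P) {M : Subgroup P} (hM : frattini P ≤ M) (hi : M.index = p)
    (hΦ : (frattini P).index = p ^ 2) (hinv : ∀ g ∈ F.autGroup P, ∀ x ∈ M, g x ∈ M) : False := by
  refine false_of_frattini_series hS hF hP hM le_top ?_ (by rw [Subgroup.relIndex_top_right, hi])
    (Or.inl rfl) hinv fun _ _ _ _ => Subgroup.mem_top _
  have h := Subgroup.relIndex_mul_index hM
  rw [hi, hΦ, sq] at h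
  exact Nat.eq_of_mul_eq_mul_right hp.out.pos h

omit Ω H in
/-- A nonabelian group of order `p³` is extraspecial. -/
theorem isExtraspecial_of_card_cube {E : Type*} [Group E] [Finite E] (hc : Nat.card E = p ^ 3)
    {a b : E} (hab : a * b ≠ b * a) : Cfsg.IsExtraspecial p E := by
  have hp := (Fact.out : p.Prime)
  have hEp : IsPGroup p E := IsPGroup.of_card hc
  have : Nontrivial E := ⟨⟨a, b, fun h => hab (by rw [h])⟩⟩
  have hncyc : ∀ (_ : IsCyclic (E ⧸ Subgroup.center E)), False := fun _ =>
    hab (commutative_of_cyclic_center_quotient (QuotientGroup.mk' _)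
      (QuotientGroup.ker_mk' (Subgroup.center E)).le a b)
  obtain ⟨i, hi, hi'⟩ := (Nat.dvd_prime_pow hp).1 (hc ▸ (Subgroup.center E).card_subgroup_dvd_card)
  have hidx := (Subgroup.center E).card_mul_index
  rw [hc, hi'] at hidx
  have hZ : Nat.card (Subgroup.center E) = p := by
    interval_cases i
    · exfalso
      have := hEp.center_nontrivial
      exact absurd hi' (by rw [pow_zero]; exact (Finite.one_lt_card).ne')
    · rw [hi', pow_one]
    · exfalso
      have h2 : (Subgroup.center E).index = p := by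
        rw [show p ^ 3 = p ^ 2 * p by ring] at hidx
        exact Nat.eq_of_mul_eq_mul_left (pow_pos hp.pos 2) hidx
      exact hncyc (isCyclic_of_prime_card (p := p) h2)
    · exact absurd (Subgroup.eq_top_of_card_eq _ (hi'.trans hc.symm)) fun h => hab
        (Subgroup.mem_center_iff.1 (h ▸ Subgroup.mem_top b) a)
  have hq : Nat.card (E ⧸ Subgroup.center E) = p ^ 2 := by
    have := (Subgroup.center E).card_mul_index
    rw [hc, hZ, pow_succ'] at this
    exact Nat.eq_of_mul_eq_mul_left hp.pos this
  have hqab := IsPGroup.commutative_of_card_eq_prime_sq hq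
  have hcc : ∀ x y : E, ⁅x, y⁆ ∈ Subgroup.center E := fun x y => by
    rw [← QuotientGroup.eq_one_iff]
    show QuotientGroup.mk' (Subgroup.center E) ⁅x, y⁆ = 1
    rw [map_commutatorElement, commutatorElement_eq_one_iff_commute]
    exact hqab _ _
  have hpow : ∀ x : E, x ^ p ∈ Subgroup.center E := fun x => by
    rw [← QuotientGroup.eq_one_iff, QuotientGroup.mk_pow]
    obtain ⟨j, hj, hj'⟩ := (Nat.dvd_prime_pow hp).1
      (hq ▸ orderOf_dvd_natCard (x : E ⧸ Subgroup.center E))
    apply orderOf_dvd_iff_pow_eq_one.1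
    interval_cases j
    · rw [hj', pow_zero]; exact one_dvd p
    · rw [hj', pow_one]
    · exact (hncyc (isCyclic_of_orderOf_eq_card _ (by rw [hj', hq]))).elim
  have hcZ : commutator E = Subgroup.center E := by
    have hle : commutator E ≤ Subgroup.center E := Subgroup.commutator_le.2 fun x _ y _ => hcc x y
    refine Subgroup.eq_of_le_of_card_ge hle ?_
    rw [hZ]
    rcases (Nat.dvd_prime hp).1 (hZ ▸ Subgroup.card_dvd_of_le hle) with h | h
    · exfalso
      apply hab
      rw [← commutatorElement_eq_one_iff_mul_comm, ← Subgroup.mem_bot, ← Subgroup.card_eq_one.1 h]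
      exact Subgroup.commutator_mem_commutator (Subgroup.mem_top _) (Subgroup.mem_top _)
    · exact h.ge
  exact ⟨⟨hEp, le_antisymm (CfsgLib.PGroup.frattini_le_of_elementary hcc hpow)
    (hcZ ▸ CfsgLib.PGroup.commutator_le_frattini hEp), hcZ⟩, hZ⟩

end CfsgLib.EssSmall
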