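import Cfsg.Agent.Lib.FusionIndexP.Essential
import Cfsg.Agent.Lib.FusionExtraspecial.Basic
import Cfsg.Agent.Lib.Solvable.CoprimeMulAction
import Cfsg.Agent.Lib.PGroup.Basic
import Mathlib.FieldTheory.Finite.Basic

/-!
Groups of automorphisms leaving invariant a series with factors of prime order, and
consequences for essential subgroups of small order.
-/

set_option autoImplicit false

namespace CfsgLib.EssSmall

open Cfsg Cfsg.FusionSystem CfsgLib.Fusion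

variable {X : Type*} [Group X] [Finite X] {p : ℕ} [hp : Fact p.Prime]

omit [Finite X] hp in
theorem pow_apply_of_fix' {Z : Subgroup X} {g : MulAut X} (hg : ∀ z ∈ Z, g z = z) {y : X}
    (hy : y⁻¹ * g y ∈ Z) (n : ℕ) : (g ^ n) y = y * (y⁻¹ * g y) ^ n := by
  induction n with
  | zero => simp
  | succ n ih =>
    rw [pow_succ', MulAut.mul_apply, ih, map_mul, map_pow, hg _ hy, pow_succ', ← mul_assoc,
      mul_inv_cancel_left]

/-- An automorphism of `p`-power order fixing a factor of order `p` of an invariant series. -/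
theorem inv_mul_apply_mem_of_relIndex {g : MulAut X} {m : ℕ} (hg : g ^ p ^ m = 1) {L U : Subgroup X}
    (hLU : L ≤ U) (hidx : L.relIndex U = p) (hn : ∀ u ∈ U, ∀ l ∈ L, u * l * u⁻¹ ∈ L)
    (hU : ∀ u ∈ U, g u ∈ U) (hL : ∀ l ∈ L, g l ∈ L) {x : X} (hx : x ∈ U) : x⁻¹ * g x ∈ L := by
  classical
  by_cases hxL : x ∈ L
  · exact mul_mem (inv_mem hxL) (hL x hxL)
  have : (L.subgroupOf U).Normal := ⟨fun l hl u => hn u u.2 l hl⟩
  have hcard : Nat.card (↥U ⧸ L.subgroupOf U) = p := hidx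
  set x' : ↥U ⧸ L.subgroupOf U := QuotientGroup.mk (⟨x, hx⟩ : U) with hx'
  have hx1 : x' ≠ 1 := fun h => hxL ((QuotientGroup.eq_one_iff (⟨x, hx⟩ : U)).1 h :)
  have hgen := zpowers_eq_top_of_prime_card hcard hx1
  obtain ⟨a, ha⟩ := Subgroup.mem_zpowers_iff.1
    (hgen ▸ Subgroup.mem_top (QuotientGroup.mk (⟨g x, hU x hx⟩ : U) : ↥U ⧸ L.subgroupOf U))
  have key : ∀ n : ℕ, ∃ hn : (g ^ n) x ∈ U,
      (QuotientGroup.mk (⟨(g ^ n) x, hn⟩ : U) : ↥U ⧸ L.subgroupOf U) = x' ^ (a ^ n) := by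
    intro n
    induction n with
    | zero => exact ⟨hx, by simp [hx']⟩
    | succ n ih =>
      obtain ⟨hn', hn''⟩ := ih
      have he : (g ^ (n + 1)) x = g ((g ^ n) x) := by rw [pow_succ', MulAut.mul_apply]
      refine ⟨by rw [he]; exact hU _ hn', ?_⟩
      rw [hx', ← QuotientGroup.mk_zpow, QuotientGroup.eq] at hn''
      rw [show a ^ (n + 1) = a * a ^ n from pow_succ' a n, zpow_mul, ha, ← QuotientGroup.mk_zpow,
        QuotientGroup.eq]
      have h1 := hL _ hn''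
      show ((g ^ (n + 1)) x)⁻¹ * (g x) ^ (a ^ n) ∈ L
      rw [he]
      simpa [map_mul, map_inv, map_zpow] using h1
  obtain ⟨hn', hn''⟩ := key (p ^ m)
  have h1 : x' ^ ((1 : ℤ) - a ^ p ^ m) = 1 := by
    rw [zpow_sub, zpow_one, ← hn'', hx']
    simp only [hg, MulAut.one_apply]
    exact mul_inv_cancel _
  have hord : orderOf x' = p := by
    have := orderOf_dvd_natCard x'
    rw [hcard] at this
    rcases (Nat.dvd_prime hp.out).1 this with h | h
    · exact absurd (orderOf_eq_one_iff.1 h) hx1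
    · exact h
  rw [← orderOf_dvd_iff_zpow_eq_one, hord, ← ZMod.intCast_zmod_eq_zero_iff_dvd] at h1
  push_cast at h1
  rw [ZMod.pow_card_pow, sub_eq_zero] at h1
  have h2 : x' ^ ((1 : ℤ) - a) = 1 := by
    rw [← orderOf_dvd_iff_zpow_eq_one, hord, ← ZMod.intCast_zmod_eq_zero_iff_dvd]
    push_cast
    rw [← h1, sub_self]
  rw [zpow_sub, zpow_one, ha, mul_inv_eq_one, hx', QuotientGroup.eq] at h2
  exact h2

/-- An automorphism trivial on `Z₁`, on `Z₂ / Z₁` and on `X / Z₂` has `p`-power order. -/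
theorem pow_eq_one_of_series (hX : IsPGroup p X) {g : MulAut X} {Z₁ Z₂ : Subgroup X}
    (h₁ : ∀ x ∈ Z₁, g x = x) (h₂ : ∀ x ∈ Z₂, x⁻¹ * g x ∈ Z₁) (h₃ : ∀ x, x⁻¹ * g x ∈ Z₂) :
    ∃ k, g ^ p ^ k = 1 := by
  obtain ⟨N, hN⟩ := IsPGroup.iff_card.1 hX
  refine ⟨N + N, ?_⟩
  have hfix : ∀ x ∈ Z₂, (g ^ p ^ N) x = x := fun x hx => by
    rw [pow_apply_of_fix' h₁ (h₂ x hx), ← hN, pow_card_eq_one', mul_one]
  have hstep : ∀ n : ℕ, ∀ x, x⁻¹ * (g ^ n) x ∈ Z₂ := by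
    intro n
    induction n with
    | zero => simp [one_mem]
    | succ n ih =>
      intro x
      have h := mul_mem (ih x) (h₃ ((g ^ n) x))
      rw [mul_assoc, mul_inv_cancel_left] at h
      rwa [pow_succ', MulAut.mul_apply]
  refine MulEquiv.ext fun y => ?_
  rw [pow_add, pow_mul, pow_apply_of_fix' hfix (hstep _ y), ← hN,
    pow_card_eq_one', mul_one]
  rfl

/-- The automorphisms in `A` trivial on the factors of the series. -/
def seriesKer (A : Subgroup (MulAut X)) (Z₁ Z₂ : Subgroup X) : Subgroup A where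
  carrier := {g | (∀ x ∈ Z₁, (g : MulAut X) x = x) ∧
    (∀ x ∈ Z₂, (g : MulAut X) x ∈ Z₂ ∧ x⁻¹ * (g : MulAut X) x ∈ Z₁) ∧
    ∀ x, x⁻¹ * (g : MulAut X) x ∈ Z₂}
  one_mem' := ⟨fun x _ => rfl, fun x hx => ⟨hx, by simp⟩, fun x => by simp⟩
  mul_mem' := by
    rintro a b ⟨a1, a2, a3⟩ ⟨b1, b2, b3⟩
    refine ⟨fun x hx => ?_, fun x hx => ⟨(a2 _ (b2 x hx).1).1, ?_⟩, fun x => ?_⟩
    · show (a : MulAut X) ((b : MulAut X) x) = x
      rw [b1 x hx, a1 x hx]
    · show x⁻¹ * (a : MulAut X) ((b : MulAut X) x) ∈ Z₁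
      have h := mul_mem (b2 x hx).2 (a2 _ (b2 x hx).1).2
      rwa [mul_assoc, mul_inv_cancel_left] at h
    · show x⁻¹ * (a : MulAut X) ((b : MulAut X) x) ∈ Z₂
      have h := mul_mem (b3 x) (a3 ((b : MulAut X) x))
      rwa [mul_assoc, mul_inv_cancel_left] at h
  inv_mem' := by
    rintro a ⟨a1, a2, a3⟩
    have hinv : ∀ x, ((a⁻¹ : A) : MulAut X) x ∈ Z₂ ↔ x ∈ Z₂ := by
      intro x
      have h := a3 (((a⁻¹ : A) : MulAut X) x)
      rw [Subgroup.coe_inv, MulAut.apply_inv_self] at h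
      rw [Subgroup.coe_inv]
      constructor
      · intro hx
        have := mul_mem hx h
        rwa [mul_inv_cancel_left] at this
      · intro hx
        have := mul_mem hx (inv_mem h)
        rwa [mul_inv_rev, inv_inv, mul_inv_cancel_left] at this
    refine ⟨fun x hx => ?_, fun x hx => ⟨(hinv x).2 hx, ?_⟩, fun x => ?_⟩
    · rw [Subgroup.coe_inv]
      conv_lhs => rw [← a1 x hx, MulAut.inv_apply_self]
    · have h := (a2 _ ((hinv x).2 hx)).2
      rw [Subgroup.coe_inv, MulAut.apply_inv_self] at h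
      rw [Subgroup.coe_inv]
      simpa using inv_mem h
    · have h := a3 (((a⁻¹ : A) : MulAut X) x)
      rw [Subgroup.coe_inv, MulAut.apply_inv_self] at h
      rw [Subgroup.coe_inv]
      simpa using inv_mem h

theorem seriesKer_normal {A : Subgroup (MulAut X)} {Z₁ Z₂ : Subgroup X}
    (hi₁ : ∀ g ∈ A, ∀ x ∈ Z₁, g x ∈ Z₁) (hi₂ : ∀ g ∈ A, ∀ x ∈ Z₂, g x ∈ Z₂) :
    (seriesKer A Z₁ Z₂).Normal := by
  refine ⟨fun k hk g => ?_⟩
  obtain ⟨k1, k2, k3⟩ := hk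
  have happ : ∀ x, ((g * k * g⁻¹ : A) : MulAut X) x =
      (g : MulAut X) ((k : MulAut X) ((g : MulAut X)⁻¹ x)) := fun x => rfl
  have hconj : ∀ x (Z : Subgroup X), (∀ y ∈ Z, (g : MulAut X) y ∈ Z) →
      ((g : MulAut X)⁻¹ x)⁻¹ * (k : MulAut X) ((g : MulAut X)⁻¹ x) ∈ Z →
      x⁻¹ * ((g * k * g⁻¹ : A) : MulAut X) x ∈ Z := by
    intro x Z hZ h
    have h' := hZ _ h
    rw [map_mul, map_inv, MulAut.apply_inv_self] at h'
    exact h'
  refine ⟨fun x hx => ?_, fun x hx => ?_, fun x => hconj x Z₂ (hi₂ g g.2) (k3 _)⟩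
  · rw [happ, k1 _ (hi₁ _ (inv_mem g.2) x hx), MulAut.apply_inv_self]
  · refine ⟨?_, hconj x Z₁ (hi₁ g g.2) (k2 _ (hi₂ _ (inv_mem g.2) x hx)).2⟩
    rw [happ]
    exact hi₂ g g.2 _ (k2 _ (hi₂ _ (inv_mem g.2) x hx)).1

/-- With an invariant series whose factors have order at most `p`, all elements of `p`-power order
of `A` lie in its `p`-core. -/
theorem mem_pCore_of_series (hX : IsPGroup p X) (A : Subgroup (MulAut X)) {Z₁ Z₂ : Subgroup X}
    (h12 : Z₁ ≤ Z₂) (hc₁ : Nat.card Z₁ = p) (hc₂ : Z₁.relIndex Z₂ = p) (hc₃ : Z₂ = ⊤ ∨ Z₂.index = p)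
    (hi₁ : ∀ g ∈ A, ∀ x ∈ Z₁, g x ∈ Z₁) (hi₂ : ∀ g ∈ A, ∀ x ∈ Z₂, g x ∈ Z₂)
    {g : A} {m : ℕ} (hg : g ^ p ^ m = 1) : g ∈ pCore p A := by
  have hK : IsPGroup p (seriesKer A Z₁ Z₂) := by
    rintro ⟨k, k1, k2, k3⟩
    obtain ⟨n, hn⟩ := pow_eq_one_of_series hX k1 (fun x hx => (k2 x hx).2) k3
    exact ⟨n, Subtype.ext (Subtype.ext hn)⟩
  refine CfsgLib.Solvable.le_pCore (seriesKer_normal hi₁ hi₂) hK ?_
  have hg' : (g : MulAut X) ^ p ^ m = 1 := congrArg Subtype.val hg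
  have hn2 : ∀ u ∈ Z₂, ∀ l ∈ Z₁, u * l * u⁻¹ ∈ Z₁ := by
    intro u hu l hl
    have : (Z₁.subgroupOf Z₂).Normal :=
      CfsgLib.FusionExtraspecial.normal_of_index_eq (hX.to_subgroup Z₂) hc₂
    exact this.conj_mem ⟨l, h12 hl⟩ hl ⟨u, hu⟩
  refine ⟨fun x hx => ?_, fun x hx => ⟨hi₂ _ g.2 x hx, ?_⟩, fun x => ?_⟩
  · have h := inv_mul_apply_mem_of_relIndex hg' (bot_le : (⊥ : Subgroup X) ≤ Z₁)
      (by rw [Subgroup.relIndex_bot_left, hc₁])
      (fun u _ l hl => by rw [Subgroup.mem_bot] at hl ⊢; rw [hl, mul_one, mul_inv_cancel])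
      (hi₁ _ g.2) (fun l hl => by rw [Subgroup.mem_bot] at hl ⊢; rw [hl, map_one]) hx
    rw [Subgroup.mem_bot, inv_mul_eq_one] at h
    exact h.symm
  · exact inv_mul_apply_mem_of_relIndex hg' h12 hc₂ hn2 (hi₂ _ g.2) (hi₁ _ g.2) hx
  · rcases hc₃ with h | h
    · rw [h]; exact Subgroup.mem_top _
    · exact inv_mul_apply_mem_of_relIndex hg' le_top (by rw [Subgroup.relIndex_top_right, h])
        (fun u _ l hl => (CfsgLib.FusionExtraspecial.normal_of_index_eq hX h).conj_mem l hl u)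
        (fun u _ => Subgroup.mem_top _) (hi₂ _ g.2) (Subgroup.mem_top x)

section Essential

variable {Ω : Type*} [Group Ω] {S : Subgroup Ω} [Finite S] {F : Cfsg.FusionSystem S} {H : Subgroup Ω}

omit X in
/-- Some element of `p`-power order of the automizer of an essential subgroup is outside its
`p`-core. -/
theorem exists_not_mem_pCore (hS : IsPGroup p S) (hF : F.IsSaturated p) (hH : F.IsEssential p H) :
    ∃ (g : F.autGroup H) (m : ℕ), g ^ p ^ m = 1 ∧ g ∉ pCore p (F.autGroup H) := by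
  have hrad := isRadical_of_isEssential hS hF hH
  have hHS : H ≤ S := hH.1.1
  have : Finite H := finite_of_le hHS
  have : Finite (MulAut H) := finite_mulAut
  obtain ⟨-, -, hn, E, hdvd, -⟩ := hH
  obtain ⟨c, hc⟩ := exists_prime_orderOf_dvd_card' p hdvd
  obtain ⟨g₀, rfl⟩ := QuotientGroup.mk'_surjective _ c
  obtain ⟨m, q, hq, hmq⟩ := (Nat.exists_eq_pow_mul_and_not_dvd (orderOf_pos g₀).ne' p hp.out.ne_one :
    ∃ e n, ¬ p ∣ n ∧ orderOf g₀ = p ^ e * n)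
  refine ⟨g₀ ^ q, m, by rw [← pow_mul, mul_comm, ← hmq, pow_orderOf_eq_one], fun hmem => ?_⟩
  have h1 : g₀ ^ q ∈ (Inn H).subgroupOf (F.autGroup H) := by
    show ((g₀ ^ q : F.autGroup H) : MulAut H) ∈ Inn H
    rw [← hrad.2]
    exact ⟨_, hmem, rfl⟩
  have h2 : (QuotientGroup.mk' _ g₀) ^ q = (1 : F.autGroup H ⧸ (Inn H).subgroupOf (F.autGroup H)) := by
    rw [← map_pow]; exact (QuotientGroup.eq_one_iff _).2 h1
  exact hq (hc ▸ orderOf_dvd_of_pow_eq_one h2)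

omit X in
/-- An essential subgroup has no invariant series with three factors of order at most `p`. -/
theorem false_of_series (hS : IsPGroup p S) (hF : F.IsSaturated p) (hH : F.IsEssential p H)
    {Z₁ Z₂ : Subgroup H} (h12 : Z₁ ≤ Z₂) (hc₁ : Nat.card Z₁ = p) (hc₂ : Z₁.relIndex Z₂ = p)
    (hc₃ : Z₂ = ⊤ ∨ Z₂.index = p) (hi₁ : ∀ g ∈ F.autGroup H, ∀ x ∈ Z₁, g x ∈ Z₁)
    (hi₂ : ∀ g ∈ F.autGroup H, ∀ x ∈ Z₂, g x ∈ Z₂) : False := by
  have : Finite H := finite_of_le hH.1.1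
  obtain ⟨g, m, hg, hgn⟩ := exists_not_mem_pCore hS hF hH
  exact hgn (mem_pCore_of_series (hS.to_le hH.1.1) _ h12 hc₁ hc₂ hc₃ hi₁ hi₂ hg)

omit X in
theorem not_isCyclic_of_isEssential (hS : IsPGroup p S) (hF : F.IsSaturated p)
    (hH : F.IsEssential p H) : ¬ IsCyclic H := by
  intro hc
  have : Finite H := finite_of_le hH.1.1
  obtain ⟨g, m, hg, hgn⟩ := exists_not_mem_pCore hS hF hH
  refine hgn (CfsgLib.Solvable.le_pCore (N := Subgroup.zpowers g) ⟨fun a ha b => ?_⟩ ?_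
    (Subgroup.mem_zpowers g))
  · have : (b : MulAut H) * a = a * b := by
      obtain ⟨x, hx⟩ := IsCyclic.exists_generator (α := H)
      obtain ⟨i, hi⟩ := hx ((a : MulAut H) x)
      obtain ⟨j, hj⟩ := hx ((b : MulAut H) x)
      refine MulEquiv.ext fun y => ?_
      obtain ⟨n, rfl⟩ := hx y
      simp only [MulAut.mul_apply, map_zpow] at hi hj ⊢
      rw [← hi, ← hj, map_zpow, map_zpow, ← hi, ← hj, ← zpow_mul, ← zpow_mul, mul_comm i]
      rw [← zpow_mul, ← zpow_mul]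
      ring_nf
    rw [show b * a = a * b from Subtype.ext this, mul_inv_cancel_right]
    exact ha
  · rintro ⟨_, k, rfl⟩
    refine ⟨m, Subtype.ext ?_⟩
    show (g ^ k) ^ p ^ m = 1
    rw [← zpow_natCast, ← zpow_mul, mul_comm, zpow_mul, zpow_natCast, hg, one_zpow]

end Essential

end CfsgLib.EssSmall
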