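import Mathlib.GroupTheory.SemidirectProduct
import Cfsg.Agent.Lib.EssSmall.Series
import Cfsg.Agent.Lib.PLocal.FFCoord

/-!
Groups of automorphisms of a plane without normal `p`-subgroup contain `SL(2, p)`.
-/

set_option autoImplicit false

open scoped MatrixGroups

namespace CfsgLib.EssSmall

open Cfsg

variable {X : Type*} [Group X] [Finite X] {p : ℕ} [hp : Fact p.Prime]

/-- An element of order `p` fixes a line of a plane and is trivial modulo it. -/
theorem exists_line (hcard : Nat.card X = p ^ 2) {t : MulAut X} (ht : t ^ p = 1) (ht1 : t ≠ 1) :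
    ∃ Z : Subgroup X, Nat.card Z = p ∧ (∀ z, z ∈ Z ↔ t z = z) ∧ ∀ y, y⁻¹ * t y ∈ Z := by
  let Z : Subgroup X :=
    { carrier := {z | t z = z}
      one_mem' := map_one t
      mul_mem' := fun {a b} ha hb => show t (a * b) = a * b by
        rw [map_mul, show t a = a from ha, show t b = b from hb]
      inv_mem' := fun {a} ha => show t a⁻¹ = a⁻¹ by rw [map_inv, show t a = a from ha] }
  have hXp : IsPGroup p X := IsPGroup.of_card hcard
  have hZc : Nat.card Z ∣ p ^ 2 := hcard ▸ Z.card_subgroup_dvd_card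
  have hTp : IsPGroup p (Subgroup.zpowers t) := by
    refine IsPGroup.of_card (n := 1) ?_
    rw [Nat.card_zpowers, orderOf_eq_prime ht ht1, pow_one]
  have hne1 : Nat.card Z ≠ 1 := by
    intro h1
    have hfix : MulAction.fixedPoints (Subgroup.zpowers t) X = (Z : Set X) := by
      ext z
      refine ⟨fun hz => hz ⟨t, Subgroup.mem_zpowers t⟩, fun hz => ?_⟩
      rintro ⟨g, hg⟩
      obtain ⟨k, rfl⟩ := Subgroup.mem_zpowers_iff.1 hg
      have hz' : t ∈ MulAction.stabilizer (MulAut X) z := hz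
      exact (Subgroup.zpow_mem _ hz' k : t ^ k ∈ MulAction.stabilizer (MulAut X) z)
    have := hTp.card_modEq_card_fixedPoints X
    rw [hfix, show Nat.card ↥(Z : Set X) = Nat.card Z from rfl, h1, hcard] at this
    have h0 : p ^ 2 ≡ 0 [MOD p] := Nat.modEq_zero_iff_dvd.2 (dvd_pow_self p two_ne_zero)
    exact hp.out.not_dvd_one (Nat.modEq_zero_iff_dvd.1 (this.symm.trans h0))
  have hZ : Nat.card Z = p := by
    obtain ⟨i, hi, hi'⟩ := (Nat.dvd_prime_pow hp.out).1 hZc
    interval_cases i
    · exact absurd (by simpa using hi') hne1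
    · simpa using hi'
    · exfalso
      have : Z = ⊤ := Subgroup.eq_top_of_card_eq Z (hi'.trans hcard.symm)
      exact ht1 (MulEquiv.ext fun y => (this ▸ Subgroup.mem_top y : y ∈ Z))
  have hidx : Z.index = p := by
    have := Z.card_mul_index
    rw [hZ, hcard, sq] at this
    exact Nat.eq_of_mul_eq_mul_left hp.out.pos this
  refine ⟨Z, hZ, fun z => Iff.rfl, fun y => ?_⟩
  refine inv_mul_apply_mem_of_relIndex (m := 1) (by rwa [pow_one]) le_top
    (by rw [Subgroup.relIndex_top_right, hidx])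
    (fun u _ l hl => (CfsgLib.FusionExtraspecial.normal_of_index_eq hXp hidx).conj_mem l hl u)
    (fun u _ => Subgroup.mem_top _) (fun l hl => ?_) (Subgroup.mem_top y)
  show t (t l) = t l
  rw [show t l = l from hl, show t l = l from hl]

/-- A group of automorphisms of an elementary abelian group of order `p²` without nontrivial
normal `p`-subgroup and of order divisible by `p` contains a copy of `SL(2, p)`. -/
theorem exists_sl2_subgroup (hab : ∀ a b : X, a * b = b * a) (hexp : ∀ a : X, a ^ p = 1)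
    (hcard : Nat.card X = p ^ 2) (A : Subgroup (MulAut X)) (hcore : pCore p A = ⊥)
    (hdvd : p ∣ Nat.card A) :
    ∃ K : Subgroup A, Nonempty (↥K ≃* SL(2, ZMod p)) := by
  classical
  have hXp : IsPGroup p X := IsPGroup.of_card hcard
  have : Finite (MulAut X) := Finite.of_injective _ DFunLike.coe_injective
  obtain ⟨t₀, ht₀⟩ := exists_prime_orderOf_dvd_card' p hdvd
  have ht₀p : (t₀ : MulAut X) ^ p = 1 := by
    rw [← Subgroup.coe_pow, ← ht₀, pow_orderOf_eq_one, Subgroup.coe_one]
  have ht₀1 : (t₀ : MulAut X) ≠ 1 := fun h => by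
    rw [orderOf_eq_one_iff.2 (Subtype.ext h)] at ht₀
    exact hp.out.one_lt.ne ht₀
  obtain ⟨Z, hZ, hZfix, hZcomm⟩ := exists_line hcard ht₀p ht₀1
  obtain ⟨γ, hγA, z₀, hz₀, hz₀'⟩ : ∃ γ ∈ A, ∃ z ∈ Z, γ z ∉ Z := by
    by_contra hc
    push Not at hc
    have hcom : Z.relIndex ⊤ = p := by
      rw [Subgroup.relIndex_top_right]
      have := Z.card_mul_index
      rw [hZ, hcard, sq] at this
      exact Nat.eq_of_mul_eq_mul_left hp.out.pos this
    have := mem_pCore_of_series hXp A (le_top : Z ≤ ⊤) hZ hcom (Or.inl rfl) hc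
      (fun _ _ _ _ => Subgroup.mem_top _) (g := t₀) (m := 1)
      (by rw [pow_one]; exact Subtype.ext ht₀p)
    rw [hcore, Subgroup.mem_bot] at this
    exact ht₀1 (congrArg Subtype.val this)
  set u₀ : A := ⟨γ, hγA⟩ * t₀ * ⟨γ, hγA⟩⁻¹ with hu₀
  have hufix : ∀ z, (u₀ : MulAut X) z = z ↔ γ⁻¹ z ∈ Z := by
    intro z
    rw [hZfix]
    show γ ((t₀ : MulAut X) (γ⁻¹ z)) = z ↔ _
    constructor
    · intro h
      have := congrArg (γ⁻¹ : MulAut X) h
      rwa [MulAut.inv_apply_self] at this
    · intro h; rw [h, MulAut.apply_inv_self]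
  have hu₀comm : ∀ y, γ⁻¹ (y⁻¹ * (u₀ : MulAut X) y) ∈ Z := by
    intro y
    show γ⁻¹ (y⁻¹ * γ ((t₀ : MulAut X) (γ⁻¹ y))) ∈ Z
    rw [map_mul, map_inv, MulAut.inv_apply_self]
    exact hZcomm _
  -- the two lines are different
  set y := γ z₀ with hy
  have hyu : (u₀ : MulAut X) y = y := (hufix y).2 (by rw [hy, MulAut.inv_apply_self]; exact hz₀)
  set x := y⁻¹ * (t₀ : MulAut X) y with hx
  have hxZ : x ∈ Z := hZcomm y
  have hx1 : x ≠ 1 := fun h => hz₀' ((hZfix y).2 (inv_mul_eq_one.1 h).symm)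
  have htx : (t₀ : MulAut X) x = x := (hZfix x).1 hxZ
  have hty : (t₀ : MulAut X) y = x * y := by rw [hab x y, hx, mul_inv_cancel_left]
  have hgenZ : Subgroup.zpowers x = Z :=
    Subgroup.eq_of_le_of_card_ge (Subgroup.zpowers_le.2 hxZ)
      (by rw [Nat.card_zpowers, hZ, orderOf_eq_prime (hexp x) hx1])
  have htop : Subgroup.zpowers x ⊔ Subgroup.zpowers y = ⊤ := by
    refine Subgroup.eq_top_of_card_eq _ (le_antisymm (Subgroup.card_le_card_group _) ?_)
    have hlt : Z < Subgroup.zpowers x ⊔ Subgroup.zpowers y := by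
      refine lt_of_le_of_ne (hgenZ ▸ le_sup_left) fun h => hz₀' ?_
      rw [h]; exact Subgroup.mem_sup_right (Subgroup.mem_zpowers y)
    obtain ⟨i, hi, hi'⟩ := (Nat.dvd_prime_pow hp.out).1
      (hcard ▸ (Subgroup.zpowers x ⊔ Subgroup.zpowers y).card_subgroup_dvd_card)
    have h1 : Nat.card Z < Nat.card ↥(Subgroup.zpowers x ⊔ Subgroup.zpowers y) :=
      Set.ncard_lt_ncard (show (Z : Set X) ⊂ _ from hlt) (Set.toFinite _)
    interval_cases i
    · rw [hi', hZ, pow_zero] at h1; have := hp.out.one_lt; omega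
    · rw [hi', hZ, pow_one] at h1; omega
    · rw [hcard, hi']
  -- normalise the second transvection
  set w := x⁻¹ * (u₀ : MulAut X) x with hw
  have hw1 : w ≠ 1 := by
    intro h
    have hux : (u₀ : MulAut X) x = x := (inv_mul_eq_one.1 h).symm
    have huall : ∀ z, (u₀ : MulAut X) z = z := by
      intro z
      have hle : Subgroup.zpowers x ⊔ Subgroup.zpowers y ≤
          ((u₀ : MulAut X).toMonoidHom).eqLocus (MonoidHom.id X) :=
        sup_le (Subgroup.zpowers_le.2 hux) (Subgroup.zpowers_le.2 hyu)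
      exact hle (htop.ge (Subgroup.mem_top z))
    refine ht₀1 (MulEquiv.ext fun z => ?_)
    have := (hufix (γ z)).1 (huall _)
    rw [MulAut.inv_apply_self] at this
    exact (hZfix z).1 this
  have hwfix : (u₀ : MulAut X) w = w := (hufix w).2 (hu₀comm x)
  obtain ⟨k, hk⟩ : ∃ k : ℕ, w ^ k = y := by
    have hwmem : γ⁻¹ w ∈ Z := hu₀comm x
    have hy1 : y ≠ 1 := fun h => hz₀' (h ▸ one_mem Z)
    have hwgen : Subgroup.zpowers (γ⁻¹ w) = Z :=
      Subgroup.eq_of_le_of_card_ge (Subgroup.zpowers_le.2 hwmem) (by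
        rw [Nat.card_zpowers, hZ, orderOf_eq_prime (hexp _)]
        intro h
        exact hw1 (by rw [← MulAut.apply_inv_self X γ w, h, map_one]))
    have : z₀ ∈ Subgroup.zpowers (γ⁻¹ w) := by rw [hwgen]; exact hz₀
    obtain ⟨k, hk⟩ := mem_powers_iff_mem_zpowers.2 this
    refine ⟨k, ?_⟩
    rw [hy, ← hk, map_pow, MulAut.apply_inv_self]
  set u : A := u₀ ^ k with hu
  have huy : (u : MulAut X) y = y := by
    have h1 : (u₀ : MulAut X) ∈ MulAction.stabilizer (MulAut X) y := hyu
    exact (pow_mem h1 k : (u₀ : MulAut X) ^ k ∈ MulAction.stabilizer (MulAut X) y)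
  have hux : (u : MulAut X) x = x * y := by
    let Zu : Subgroup X := Subgroup.zpowers w
    have := pow_apply_of_fix' (g := (u₀ : MulAut X)) (Z := Zu) (fun z hz => by
      obtain ⟨i, rfl⟩ := hz
      simp only [map_zpow, hwfix]) (y := x) (Subgroup.mem_zpowers w) k
    rw [← hw, hk] at this
    exact this
  -- the semidirect product
  let G := SemidirectProduct X A A.subtype
  have : Finite G := Finite.of_equiv _ SemidirectProduct.equivProd.symm
  let W : Subgroup G := (SemidirectProduct.inl : X →* G).range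
  let E : Subgroup G := Subgroup.closure {SemidirectProduct.inr t₀, SemidirectProduct.inr u}
  have hER : E ≤ (SemidirectProduct.inr : A →* G).range := by
    refine (Subgroup.closure_le _).2 ?_
    rintro _ (rfl | rfl) <;> exact ⟨_, rfl⟩
  have hconj : ∀ (a : A) (z : X), SemidirectProduct.inr a * (SemidirectProduct.inl z : G) *
      (SemidirectProduct.inr a)⁻¹ = SemidirectProduct.inl ((a : MulAut X) z) := fun a z => by
    rw [← map_inv]
    exact (SemidirectProduct.inl_aut _ _).symm
  have hW : Cfsg.IsElementaryAbelian p W := by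
    refine ⟨⟨⟨?_⟩⟩, ?_⟩
    · rintro ⟨_, a, rfl⟩ ⟨_, b, rfl⟩
      exact Subtype.ext (by
        show (SemidirectProduct.inl a : G) * SemidirectProduct.inl b = _ * _
        rw [← map_mul, hab, map_mul])
    · rintro _ ⟨a, rfl⟩
      rw [← map_pow, hexp, map_one]
  have hWc : Nat.card W = p ^ 2 := by
    rw [← hcard]
    exact Nat.card_congr (MonoidHom.ofInjective SemidirectProduct.inl_injective).toEquiv.symm
  have hWn : W.Normal := by
    show ((SemidirectProduct.inl : X →* G).range).Normal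
    rw [SemidirectProduct.range_inl_eq_ker_rightHom]
    infer_instance
  obtain ⟨φ, -, -⟩ := CfsgLib.PLocal.exists_sl2_coordinates (E := E) hW hWc
    (by rw [Subgroup.normalizer_eq_top_iff.2 hWn]; exact le_top)
    ((Subgroup.eq_bot_iff_forall _).2 fun g ⟨hg, hg'⟩ => by
      obtain ⟨a, rfl⟩ := hER hg
      have : a = 1 := Subtype.ext (MulEquiv.ext fun z => SemidirectProduct.inl_injective
        (φ := A.subtype) (by
          rw [← hconj]
          have h := Subgroup.mem_centralizer_iff.1 hg' _ (⟨z, rfl⟩ : SemidirectProduct.inl z ∈ W)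
          rw [← h, mul_inv_cancel_right]
          rfl))
      rw [this, map_one])
    (u := SemidirectProduct.inl x) (u' := SemidirectProduct.inl y) ⟨x, rfl⟩ ⟨y, rfl⟩
    (by
      rintro _ ⟨z, rfl⟩
      rw [← MonoidHom.map_zpowers, ← MonoidHom.map_zpowers, ← Subgroup.map_sup, htop]
      exact ⟨z, Subgroup.mem_top z, rfl⟩)
    rfl (by rw [hconj, htx]) (by rw [hconj, hty, map_mul])
    (by rw [hconj, hux, map_mul]) (by rw [hconj, huy])
  refine ⟨E.map (SemidirectProduct.rightHom : G →* A), ⟨(MulEquiv.trans ?_ φ)⟩⟩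
  refine (MulEquiv.ofBijective ((SemidirectProduct.rightHom : G →* A).subgroupMap E)
    ⟨?_, (SemidirectProduct.rightHom : G →* A).subgroupMap_surjective E⟩).symm
  intro a b h
  obtain ⟨a', ha'⟩ := hER a.2
  obtain ⟨b', hb'⟩ := hER b.2
  have h' := congrArg Subtype.val h
  simp only [MonoidHom.subgroupMap_apply_coe] at h'
  rw [← ha', ← hb', SemidirectProduct.rightHom_inr, SemidirectProduct.rightHom_inr] at h'
  exact Subtype.ext (by rw [← ha', ← hb', h'])

end CfsgLib.EssSmall
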