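import Mathlib.Data.ZMod.Basic
import Mathlib.RingTheory.Coprime.Lemmas
import Mathlib.Data.Nat.Choose.Sum
import Cfsg.Agent.Lib.EssSmall.Plane

/-!
Abelian `p`-groups of rank two with an automorphism group without normal `p`-subgroup.
-/

set_option autoImplicit false

namespace CfsgLib.EssSmall

open scoped commutatorElement

open Cfsg

variable {H : Type*} [CommGroup H] [Finite H] {p : ℕ} [hp : Fact p.Prime]

omit [Finite H] hp in
/-- The subgroup of `p`-th powers. -/
theorem mem_powRange {p : ℕ} {x : H} : x ∈ (powMonoidHom p : H →* H).range ↔ ∃ w, w ^ p = x :=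
  Iff.rfl

theorem frattini_eq_powRange (hH : IsPGroup p H) : frattini H = (powMonoidHom p : H →* H).range := by
  refine le_antisymm (CfsgLib.PGroup.frattini_le_of_elementary (fun x y => ?_) fun x => ⟨x, rfl⟩) ?_
  · have h : ⁅x, y⁆ = 1 := commutatorElement_eq_one_iff_mul_comm.2 (mul_comm x y)
    rw [h]; exact one_mem _
  · rintro _ ⟨x, rfl⟩
    exact CfsgLib.PGroup.pow_mem_frattini hH x

/-- The action on the Frattini quotient. -/
noncomputable def frattiniAct (H : Type*) [CommGroup H] : MulAut H →* MulAut (H ⧸ frattini H) where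
  toFun g := QuotientGroup.congr (frattini H) (frattini H) g (by
    have h : ∀ g : MulAut H, (frattini H).map g.toMonoidHom ≤ frattini H := fun g => by
      rw [Subgroup.map_le_iff_le_comap]
      exact frattini_le_comap_frattini_of_surjective g.surjective
    refine le_antisymm (h g) fun x hx => ?_
    exact ⟨g⁻¹ x, h g⁻¹ ⟨x, hx, rfl⟩, MulAut.apply_inv_self _ g x⟩)
  map_one' := by
    refine MulEquiv.ext fun x => ?_
    obtain ⟨x, rfl⟩ := QuotientGroup.mk_surjective x
    rfl
  map_mul' g h := by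
    refine MulEquiv.ext fun x => ?_
    obtain ⟨x, rfl⟩ := QuotientGroup.mk_surjective x
    rfl

omit [Finite H] in
@[simp] theorem frattiniAct_mk (g : MulAut H) (x : H) :
    frattiniAct H g (QuotientGroup.mk x) = QuotientGroup.mk (g x) := rfl

theorem frattiniAct_injOn (hH : IsPGroup p H) {A : Subgroup (MulAut H)} (hA : pCore p A = ⊥) :
    Function.Injective ((frattiniAct H).comp A.subtype) := by
  classical
  rw [← MonoidHom.ker_eq_bot_iff]
  set ψ := (frattiniAct H).comp A.subtype
  refine le_bot_iff.1 (hA ▸ CfsgLib.Solvable.le_pCore inferInstance ?_)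
  have : Finite (MulAut H) := Finite.of_injective _ DFunLike.coe_injective
  rintro ⟨g, hg⟩
  obtain ⟨m, q, hq, hmq⟩ := (Nat.exists_eq_pow_mul_and_not_dvd (orderOf_pos g).ne' p hp.out.ne_one :
    ∃ e n, ¬ p ∣ n ∧ orderOf g = p ^ e * n)
  refine ⟨m, Subtype.ext ?_⟩
  set h := g ^ p ^ m with hh
  show h = 1
  have hhq : orderOf (h : MulAut H) = q := by
    rw [Subgroup.orderOf_coe, hh, orderOf_pow, hmq, Nat.gcd_mul_right_left,
      Nat.mul_div_cancel_left _ (pow_pos hp.out.pos m)]
  have hcop : (Nat.card (Subgroup.zpowers (h : MulAut H))).Coprime (Nat.card (frattini H)) := by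
    obtain ⟨n, hn⟩ := IsPGroup.iff_card.1 (hH.to_subgroup (frattini H))
    rw [Nat.card_zpowers, hhq, hn]
    exact ((hp.out.coprime_iff_not_dvd.2 hq).symm).pow_right n
  have key := CfsgLib.Solvable.smul_eq_self_of_trivial_on_frattini_quotient
    (A := Subgroup.zpowers (h : MulAut H)) (K := H) hcop (fun a k => by
      have ha : (a : MulAut H) ∈ (frattiniAct H).ker := by
        refine Subgroup.zpowers_le.2 ?_ a.2
        show frattiniAct H ((g ^ p ^ m : A) : MulAut H) = 1
        have hg' : ψ g = 1 := hg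
        rw [show frattiniAct H ((g ^ p ^ m : A) : MulAut H) = ψ (g ^ p ^ m) from rfl, map_pow, hg',
          one_pow]
      have h1 := congrArg (fun e : MulAut (H ⧸ frattini H) => e (QuotientGroup.mk k)) ha
      simp only [frattiniAct_mk, MulAut.one_apply] at h1
      exact QuotientGroup.eq.1 h1.symm)
  exact Subtype.ext (MulEquiv.ext fun k => key ⟨_, Subgroup.mem_zpowers _⟩ k)

variable {A : Subgroup (MulAut H)} (hH : IsPGroup p H) (hA : pCore p A = ⊥) (hdvd : p ∣ Nat.card A)
  (hidx : (frattini H).index = p ^ 2)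

include hH hA hdvd hidx

/-- The invariant subgroups over the Frattini subgroup are trivial. -/
theorem eq_or_eq_top {M : Subgroup H} (hle : frattini H ≤ M)
    (hinv : ∀ g ∈ A, ∀ x ∈ M, g x ∈ M) : M = frattini H ∨ M = ⊤ := by
  classical
  by_contra hc
  push Not at hc
  have : Finite (MulAut H) := Finite.of_injective _ DFunLike.coe_injective
  set π := QuotientGroup.mk' (frattini H) with hπ
  have hQ : Nat.card (H ⧸ frattini H) = p ^ 2 := hidx
  have hcomap : (M.map π).comap π = M :=
    Subgroup.comap_map_eq_self (by rw [hπ, QuotientGroup.ker_mk']; exact hle)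
  have hMp : Nat.card (M.map π) = p := by
    obtain ⟨i, hi, hi'⟩ := (Nat.dvd_prime_pow hp.out).1 (hQ ▸ (M.map π).card_subgroup_dvd_card)
    interval_cases i
    · exfalso
      apply hc.1
      rw [← hcomap, (Subgroup.card_eq_one.1 (hi'.trans (pow_zero p)) : M.map π = ⊥), MonoidHom.comap_bot, hπ,
        QuotientGroup.ker_mk']
    · exact hi'.trans (pow_one p)
    · exfalso
      apply hc.2
      rw [← hcomap, Subgroup.eq_top_of_card_eq _ (hi'.trans hQ.symm), Subgroup.comap_top]
  set ψ := (frattiniAct H).comp A.subtype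
  have hinj : Function.Injective ψ := frattiniAct_injOn hH hA
  obtain ⟨g, hg⟩ := exists_prime_orderOf_dvd_card' p hdvd
  have hrel : (M.map π).relIndex ⊤ = p := by
    rw [Subgroup.relIndex_top_right]
    have := (M.map π).card_mul_index
    rw [hMp, hQ, sq] at this
    exact Nat.eq_of_mul_eq_mul_left hp.out.pos this
  let g' : ψ.range := ⟨ψ g, g, rfl⟩
  have hgp : g' ^ p ^ 1 = 1 := Subtype.ext (by
    rw [pow_one]
    show (ψ g) ^ p = 1
    rw [← map_pow, ← hg, pow_orderOf_eq_one, map_one])
  have hmem := mem_pCore_of_series (IsPGroup.of_card hQ) ψ.range (le_top : M.map π ≤ ⊤) hMp hrel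
    (Or.inl rfl) (fun γ hγ x hx => by
      obtain ⟨a, rfl⟩ := hγ
      obtain ⟨m, hm, rfl⟩ := hx
      exact ⟨(a : MulAut H) m, hinv _ a.2 m hm, rfl⟩) (fun _ _ _ _ => Subgroup.mem_top _) hgp
  let e : A ≃* ψ.range := MonoidHom.ofInjective hinj
  have hg1 : g ∈ pCore p A := by
    refine CfsgLib.Solvable.le_pCore (N := (pCore p ψ.range).comap e.toMonoidHom) ?_ ?_ (hmem : _)
    · exact (CfsgLib.Solvable.pCore_normal p _).comap _
    · exact (CfsgLib.Solvable.pCore_isPGroup p _).comap_of_injective _ e.injective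
  rw [hA, Subgroup.mem_bot] at hg1
  rw [hg1, orderOf_one] at hg
  exact hp.out.one_lt.ne hg

/-- Every element outside the Frattini subgroup has maximal order. -/
theorem pow_eq_one_of_notMem {x : H} (hx : x ∉ frattini H) {j : ℕ} (hj : x ^ p ^ j = 1) (y : H) :
    y ^ p ^ j = 1 := by
  set K := (powMonoidHom (p ^ j) : H →* H).ker
  have hM : frattini H ⊔ K = ⊤ := by
    refine (eq_or_eq_top hH hA hdvd hidx le_sup_left ?_).resolve_left fun h => hx ?_
    · intro g _ z hz
      have hle : frattini H ⊔ K ≤ (frattini H ⊔ K).comap g.toMonoidHom := by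
        refine sup_le ((frattini_le_comap_frattini_of_surjective g.surjective).trans
          (Subgroup.comap_mono le_sup_left)) fun k hk => ?_
        refine Subgroup.mem_sup_right ?_
        show (g k) ^ p ^ j = 1
        rw [← map_pow, show k ^ p ^ j = 1 from hk, map_one]
      exact hle hz
    · rw [← h]; exact Subgroup.mem_sup_right hj
  have hK : K = ⊤ := frattini_nongenerating (by rwa [sup_comm])
  exact (hK ▸ Subgroup.mem_top y : y ∈ K)

theorem exists_not_mem_frattini : ∃ x : H, x ∉ frattini H := by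
  by_contra hc
  push Not at hc
  rw [show frattini H = ⊤ from eq_top_iff.2 fun x _ => hc x, Subgroup.index_top] at hidx
  exact absurd hidx (one_lt_pow₀ hp.out.one_lt two_ne_zero).ne

/-- For primes at least five the group is elementary. -/
theorem pow_prime_eq_one (h5 : 5 ≤ p) (y : H) : y ^ p = 1 := by
  classical
  have : Finite (MulAut H) := Finite.of_injective _ DFunLike.coe_injective
  obtain ⟨g, hg⟩ := exists_prime_orderOf_dvd_card' p hdvd
  set ψ := (frattiniAct H).comp A.subtype
  have hψ1 : ψ g ≠ 1 := fun h => by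
    rw [← map_one ψ] at h
    rw [frattiniAct_injOn hH hA h, orderOf_one] at hg
    exact hp.out.one_lt.ne hg
  obtain ⟨Z, hZc, hZfix, hZ⟩ := exists_line (p := p) (X := H ⧸ frattini H) hidx
    (by rw [← map_pow, ← hg, pow_orderOf_eq_one, map_one]) hψ1
  set γ := (g : MulAut H)
  -- `f y = y⁻¹ γ y`, and its square maps everything into the Frattini subgroup
  let f : H → H := fun z => z⁻¹ * γ z
  have hff : ∀ z, f (f z) ∈ frattini H := fun z => by
    have h := (hZfix _).1 (hZ (QuotientGroup.mk z))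
    exact QuotientGroup.eq.1 h.symm
  obtain ⟨y₀, hy₀⟩ : ∃ y₀, f y₀ ∉ frattini H := by
    by_contra hc
    push Not at hc
    refine hψ1 (MulEquiv.ext fun z => ?_)
    obtain ⟨z, rfl⟩ := QuotientGroup.mk_surjective z
    exact (QuotientGroup.eq.2 (hc z)).symm
  let T : AddMonoid.End (Additive H) := MonoidHom.toAdditive γ.toMonoidHom
  let N : AddMonoid.End (Additive H) := T - 1
  have hNapp : ∀ z, N (Additive.ofMul z) = Additive.ofMul (f z) := fun z => by
    show Additive.ofMul (γ z) - Additive.ofMul z = Additive.ofMul (z⁻¹ * γ z)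
    rw [← ofMul_div, div_eq_mul_inv, mul_comm]
  have hNiter : ∀ i z, (N ^ i) (Additive.ofMul z) = Additive.ofMul (f^[i] z) := by
    intro i
    induction i with
    | zero => intro z; rfl
    | succ i ih =>
      intro z
      rw [pow_succ, Function.iterate_succ_apply]
      show (N ^ i) (N (Additive.ofMul z)) = _
      rw [hNapp, ih]
  have hT : ∀ i z, (T ^ i) (Additive.ofMul z) = Additive.ofMul ((γ ^ i) z) := by
    intro i
    induction i with
    | zero => intro z; rfl
    | succ i ih =>
      intro z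
      rw [pow_succ', pow_succ', MulAut.mul_apply]
      show T ((T ^ i) (Additive.ofMul z)) = _
      rw [ih]
      rfl
  -- the binomial expansion of `γ ^ p`
  have hsum : ∀ z, ∏ i ∈ Finset.range (p + 1), (f^[i] z) ^ p.choose i = z := by
    intro z
    have h1 := (Commute.one_right N).add_pow p
    rw [show N + 1 = T from sub_add_cancel T 1] at h1
    have h2 := congrArg (fun e : AddMonoid.End (Additive H) => e (Additive.ofMul z)) h1
    simp only [hT] at h2
    have hγp : γ ^ p = 1 := by rw [← Subgroup.coe_pow, ← hg, pow_orderOf_eq_one, Subgroup.coe_one]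
    rw [hγp, MulAut.one_apply] at h2
    apply Additive.ofMul.injective
    refine Eq.trans ?_ h2.symm
    rw [ofMul_prod]
    refine Eq.trans ?_ (map_sum (AddMonoidHom.eval (Additive.ofMul z)) _ _).symm
    refine Finset.sum_congr rfl fun i _ => ?_
    rw [ofMul_pow, ← hNiter, one_pow, mul_one, ← map_nsmul]
    show _ = (N ^ i) ((p.choose i : AddMonoid.End (Additive H)) (Additive.ofMul z))
    rw [AddMonoid.End.natCast_apply]
  have hfmul : ∀ a b, f (a * b) = f a * f b := fun a b => by
    show (a * b)⁻¹ * γ (a * b) = (a⁻¹ * γ a) * (b⁻¹ * γ b)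
    rw [map_mul, mul_inv, mul_mul_mul_comm]
  have hfpow : ∀ (a : H) (n : ℕ), f (a ^ n) = f a ^ n := fun a n => by
    show (a ^ n)⁻¹ * γ (a ^ n) = (a⁻¹ * γ a) ^ n
    rw [map_pow, mul_pow, inv_pow]
  -- all terms but the first are squares of `p`-th powers
  set P₂ := (powMonoidHom (p * p) : H →* H).range
  have hfP₂ : ∀ a ∈ P₂, f a ∈ P₂ := by
    rintro _ ⟨w, rfl⟩
    exact ⟨f w, (hfpow w _).symm⟩
  have hfr := frattini_eq_powRange hH
  have hterm : ∀ i, 2 ≤ i → i ≤ p → (f^[i] y₀) ^ p.choose i ∈ P₂ := by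
    intro i hi hip
    obtain ⟨w, hw⟩ := mem_powRange.1 (hfr ▸ hff y₀ : f (f y₀) ∈ (powMonoidHom p : H →* H).range)
    have hiter : ∀ j, f^[j + 2] y₀ = (f^[j] w) ^ p := by
      intro j
      induction j with
      | zero => exact hw.symm
      | succ j ih => rw [Function.iterate_succ_apply', ih, hfpow, Function.iterate_succ_apply']
    rcases lt_or_ge i 4 with h4 | h4
    · obtain ⟨c, hc⟩ := hp.out.dvd_choose_self (show i ≠ 0 by omega) (show i < p by omega)
      refine ⟨(f^[i - 2] w) ^ c, ?_⟩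
      have h2 : f^[i] y₀ = (f^[i - 2] w) ^ p := by
        rw [← hiter (i - 2), show i - 2 + 2 = i by omega]
      rw [h2, ← pow_mul, hc]
      show ((f^[i - 2] w) ^ c) ^ (p * p) = _
      rw [← pow_mul]
      congr 1
      ring
    · have h44 : f^[4] y₀ ∈ P₂ := by
        obtain ⟨v, hv⟩ := mem_powRange.1 (hfr ▸ hff w : f (f w) ∈ (powMonoidHom p : H →* H).range)
        refine ⟨v, ?_⟩
        rw [hiter 2]
        show v ^ (p * p) = (f (f w)) ^ p
        rw [← hv, pow_mul]
      refine pow_mem ?_ _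
      obtain ⟨j, rfl⟩ := Nat.exists_eq_add_of_le h4
      clear hip
      induction j with
      | zero => exact h44
      | succ j ih =>
        rw [← add_assoc, Function.iterate_succ_apply']
        exact hfP₂ _ (ih (by omega) (by omega))
  have hz := hsum y₀
  rw [Finset.range_eq_Ico, ← Finset.prod_Ico_consecutive _ (show 0 ≤ 2 by omega) (show 2 ≤ p + 1 by omega),
    ← Finset.range_eq_Ico, Finset.prod_range_succ, Finset.prod_range_one, Nat.choose_zero_right,
    Nat.choose_one_right, pow_one] at hz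
  have hrest : ∏ i ∈ Finset.Ico 2 (p + 1), (f^[i] y₀) ^ p.choose i ∈ P₂ :=
    Subgroup.prod_mem _ fun i hi => hterm i (Finset.mem_Ico.1 hi).1 (by
      have := (Finset.mem_Ico.1 hi).2; omega)
  rw [mul_assoc] at hz
  have h1 : (f y₀) ^ p ∈ P₂ := by
    have h3 : f y₀ ^ p * ∏ i ∈ Finset.Ico 2 (p + 1), (f^[i] y₀) ^ p.choose i = 1 :=
      mul_left_cancel (a := y₀) (hz.trans (mul_one y₀).symm)
    rw [eq_inv_of_mul_eq_one_left h3]
    exact inv_mem hrest
  obtain ⟨v, hv⟩ := h1
  have hy1 : f y₀ * (v ^ p)⁻¹ ∉ frattini H := fun h => hy₀ (by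
    have := mul_mem h (CfsgLib.PGroup.pow_mem_frattini hH v)
    rwa [inv_mul_cancel_right] at this)
  have := pow_eq_one_of_notMem hH hA hdvd hidx hy1 (j := 1) (by
    rw [pow_one, mul_pow, inv_pow, ← pow_mul]
    exact mul_inv_eq_one.2 hv.symm) y
  rwa [pow_one] at this

/-- The group is homocyclic of rank two. -/
theorem exists_homocyclic : ∃ k : ℕ, Nonempty (H ≃* Multiplicative (ZMod (p ^ k) × ZMod (p ^ k))) := by
  classical
  obtain ⟨x, hx⟩ := exists_not_mem_frattini hH hA hdvd hidx
  obtain ⟨k, hk⟩ : ∃ k, orderOf x = p ^ k :=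
    ((Nat.dvd_prime_pow hp.out).1 ((IsPGroup.iff_card.1 hH).choose_spec ▸ orderOf_dvd_natCard x)).imp
      fun _ h => h.2
  have hexp : ∀ z : H, z ^ p ^ k = 1 :=
    pow_eq_one_of_notMem hH hA hdvd hidx hx (hk ▸ pow_orderOf_eq_one x)
  have hpF : ∀ z : H, z ^ p ∈ frattini H := CfsgLib.PGroup.pow_mem_frattini hH
  have hbez : ∀ (z : H) (U : Subgroup H), z ^ p ∈ U → ∀ i : ℤ, z ^ i ∈ U → ¬ (p : ℤ) ∣ i → z ∈ U := by
    intro z U hzp i hzi hi
    obtain ⟨a, b, hab⟩ : IsCoprime (p : ℤ) i :=
      (Nat.prime_iff_prime_int.1 hp.out).coprime_iff_not_dvd.2 hi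
    have : z = (z ^ (p : ℤ)) ^ a * (z ^ i) ^ b := by
      rw [← zpow_mul, ← zpow_mul, ← zpow_add, mul_comm _ a, mul_comm _ b, hab, zpow_one]
    rw [this]
    exact mul_mem (Subgroup.zpow_mem _ (by simpa using hzp) _) (Subgroup.zpow_mem _ hzi _)
  obtain ⟨y, hy⟩ : ∃ y, y ∉ frattini H ⊔ Subgroup.zpowers x := by
    by_contra hc
    push Not at hc
    have htop : frattini H ⊔ Subgroup.zpowers x = ⊤ := eq_top_iff.2 fun z _ => hc z
    have hcyc : Subgroup.zpowers x = ⊤ := frattini_nongenerating (by rwa [sup_comm])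
    have hd : (frattini H).index ∣ p := by
      rw [show (frattini H).index = Nat.card (H ⧸ frattini H) from rfl]
      have hgen : Subgroup.zpowers (QuotientGroup.mk x : H ⧸ frattini H) = ⊤ := by
        rw [← QuotientGroup.mk'_apply, ← MonoidHom.map_zpowers, hcyc]
        exact Subgroup.map_top_of_surjective _ (QuotientGroup.mk'_surjective _)
      rw [← Subgroup.card_top, ← hgen, Nat.card_zpowers]
      refine orderOf_dvd_of_pow_eq_one ?_
      rw [← QuotientGroup.mk_pow, QuotientGroup.eq_one_iff]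
      exact hpF x
    rw [hidx] at hd
    exact absurd (Nat.le_of_dvd hp.out.pos hd) (not_le.2 (by
      conv_lhs => rw [← pow_one p]
      exact Nat.pow_lt_pow_right hp.out.one_lt one_lt_two))
  let lx : ZMod (p ^ k) →+ Additive H := ZMod.lift (p ^ k) ⟨zmultiplesHom _ (Additive.ofMul x), by
    rw [zmultiplesHom_apply, natCast_zsmul]; exact congrArg Additive.ofMul (hexp x)⟩
  let ly : ZMod (p ^ k) →+ Additive H := ZMod.lift (p ^ k) ⟨zmultiplesHom _ (Additive.ofMul y), by
    rw [zmultiplesHom_apply, natCast_zsmul]; exact congrArg Additive.ofMul (hexp y)⟩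
  let θ : ZMod (p ^ k) × ZMod (p ^ k) →+ Additive H := lx.coprod ly
  have hθ : ∀ i j : ℤ, θ ((i : ZMod (p ^ k)), (j : ZMod (p ^ k))) = Additive.ofMul (x ^ i * y ^ j) := by
    intro i j
    show lx (i : ZMod (p ^ k)) + ly (j : ZMod (p ^ k)) = _
    rw [ZMod.lift_coe, ZMod.lift_coe]
    rfl
  have hinj : Function.Injective θ := by
    rw [injective_iff_map_eq_zero]
    rintro ⟨a, b⟩ hab
    obtain ⟨i, rfl⟩ := ZMod.intCast_surjective a
    obtain ⟨j, rfl⟩ := ZMod.intCast_surjective b
    rw [hθ] at hab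
    have hij : x ^ i * y ^ j = 1 := Additive.ofMul.injective hab
    have key : ∀ r, r ≤ k → ((p : ℤ) ^ r ∣ i ∧ (p : ℤ) ^ r ∣ j) := by
      intro r
      induction r with
      | zero => intro _; simp
      | succ r ih =>
        intro hr
        obtain ⟨⟨i', hi'⟩, ⟨j', hj'⟩⟩ := ih (by omega)
        set z := x ^ i' * y ^ j' with hz
        have hzr : z ^ p ^ r = 1 := by
          rw [hz, mul_pow, ← zpow_natCast, ← zpow_natCast, ← zpow_mul, ← zpow_mul, mul_comm i', mul_comm j',
            Nat.cast_pow, ← hi', ← hj', hij]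
        have hzF : z ∈ frattini H := by
          by_contra hzF
          have h := pow_eq_one_of_notMem hH hA hdvd hidx hzF hzr x
          have := orderOf_dvd_of_pow_eq_one h
          rw [hk, Nat.pow_dvd_pow_iff_le_right hp.out.one_lt] at this
          omega
        have hjp : (p : ℤ) ∣ j' := by
          by_contra hjp
          refine hy (hbez y _ (Subgroup.mem_sup_left (hpF y)) j' ?_ hjp)
          have : y ^ j' = z * (x ^ i')⁻¹ := by rw [hz, mul_comm (x ^ i'), mul_inv_cancel_right]
          rw [this]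
          exact mul_mem (Subgroup.mem_sup_left hzF)
            (Subgroup.mem_sup_right (inv_mem (Subgroup.zpow_mem _ (Subgroup.mem_zpowers x) _)))
        have hip : (p : ℤ) ∣ i' := by
          by_contra hip
          refine hx (hbez x _ (hpF x) i' ?_ hip)
          obtain ⟨c, rfl⟩ := hjp
          have : x ^ i' = z * (y ^ ((p : ℤ) * c))⁻¹ := by rw [hz, mul_inv_cancel_right]
          rw [this]
          refine mul_mem hzF (inv_mem ?_)
          rw [zpow_mul, zpow_natCast]
          exact Subgroup.zpow_mem _ (hpF y) c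
        exact ⟨hi' ▸ (pow_succ (p : ℤ) r ▸ mul_dvd_mul_left _ hip),
          hj' ▸ (pow_succ (p : ℤ) r ▸ mul_dvd_mul_left _ hjp)⟩
    obtain ⟨h1, h2⟩ := key k le_rfl
    refine Prod.ext ?_ ?_ <;>
    · show ((_ : ℤ) : ZMod (p ^ k)) = 0
      rw [ZMod.intCast_zmod_eq_zero_iff_dvd, Nat.cast_pow]
      assumption
  have hsurj : Function.Surjective θ := by
    have htop : Subgroup.zpowers x ⊔ Subgroup.zpowers y = ⊤ := by
      refine frattini_nongenerating ?_
      by_contra hc
      set M := frattini H ⊔ Subgroup.zpowers x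
      set U := (Subgroup.zpowers x ⊔ Subgroup.zpowers y) ⊔ frattini H
      have hMU : M < U := lt_of_le_of_ne
        (sup_le le_sup_right (le_sup_left.trans le_sup_left))
        (fun h => hy (h ▸ Subgroup.mem_sup_left (Subgroup.mem_sup_right (Subgroup.mem_zpowers y))))
      have hFM : frattini H < M := lt_of_le_of_ne le_sup_left
        (fun h => hx (h ▸ Subgroup.mem_sup_right (Subgroup.mem_zpowers x)))
      have hchain : ∀ {a b : Subgroup H}, a < b → frattini H ≤ a →
          b.index < a.index ∧ b.index ∣ p ^ 2 := fun {a b} h h' =>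
        ⟨Subgroup.index_strictAnti h, hidx ▸ Subgroup.index_dvd_of_le (h'.trans h.le)⟩
      obtain ⟨h1, h1'⟩ := hchain hFM le_rfl
      obtain ⟨h2, h2'⟩ := hchain hMU le_sup_left
      rw [hidx] at h1
      obtain ⟨i, hi, hi'⟩ := (Nat.dvd_prime_pow hp.out).1 h1'
      obtain ⟨j, hj, hj'⟩ := (Nat.dvd_prime_pow hp.out).1 h2'
      rw [hi', Nat.pow_lt_pow_iff_right hp.out.one_lt] at h1
      rw [hi', hj', Nat.pow_lt_pow_iff_right hp.out.one_lt] at h2
      exact hc (Subgroup.index_eq_one.1 (by rw [hj', show j = 0 by omega, pow_zero]))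
    intro z
    obtain ⟨_, ⟨i, rfl⟩, _, ⟨j, rfl⟩, hz⟩ :=
      Subgroup.mem_sup.1 (htop.ge (Subgroup.mem_top (Additive.toMul z)))
    exact ⟨((i : ZMod (p ^ k)), (j : ZMod (p ^ k))), by rw [hθ]; exact congrArg Additive.ofMul hz⟩
  exact ⟨k, ⟨(AddEquiv.toMultiplicativeLeft (AddEquiv.ofBijective θ ⟨hinj, hsurj⟩)).symm⟩⟩

end CfsgLib.EssSmall
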